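/-
helper728 (task 1188; S2484, S5760): the row `PSp_{2m}(2)`, `p = 3`.
-/
import Mathlib
import Cfsg.Agent.H728.Syl3.Mono
import Cfsg.Agent.H513.MeetPSp
import Cfsg.Agent.H749.RowS

set_option autoImplicit false

namespace Cfsg.Agent.H728.Syl3

open Cfsg.Agent.H903.SylMeet Cfsg.Agent.H903.SylSemi
open Cfsg.Agent.ClassicalGeometry.SympAutSemi Cfsg.Agent.ClassicalGeometry.SympGamma
open Cfsg.Agent.ClassicalGeometry Cfsg.Agent.H513.MeetPSp

/-! ### General -/

theorem not_dvd_relIndex {G : Type*} [Group G] [Finite G] {p : ℕ} [Fact p.Prime] {M X : Subgroup G}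
    (hMX : M ≤ X) (h : (Nat.card X).factorization p ≤ (Nat.card M).factorization p) :
    ¬ p ∣ M.relIndex X := by
  intro hd
  have h1 : Nat.card M * M.relIndex X = Nat.card X := by
    have h2 := (M.subgroupOf X).card_mul_index
    rwa [Nat.card_congr (Subgroup.subgroupOfEquivOfLe hMX).toEquiv] at h2
  have h3 : M.relIndex X ≠ 0 := by
    intro h0
    rw [h0, mul_zero] at h1
    exact Nat.card_pos.ne h1
  rw [← h1, Nat.factorization_mul Nat.card_pos.ne' h3, Finsupp.add_apply] at h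
  have h4 : 0 < (M.relIndex X).factorization p :=
    (Fact.out : p.Prime).factorization_pos_of_dvd h3 hd
  omega

theorem ringEquiv_two (θ : ZMod 2 ≃+* ZMod 2) : θ = RingEquiv.refl _ := by
  ext a
  fin_cases a
  · exact map_zero θ
  · exact map_one θ

theorem four_cast : ((4 : ℤ) : ZMod 3) = 1 := by decide

theorem two_eq_one : ∀ τ : ZMod 2, τ ≠ 0 → τ = 1 := by decide

/-! ### The coordinates -/

variable {m : ℕ}

/-- Coordinates of the symplectic space. -/
def spΦ (m : ℕ) : (Fin m ⊕ Fin m → ZMod 2) ≃ (Fin m → A) × Unit where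
  toFun v := (fun i => (v (Sum.inl i), v (Sum.inr i)), ())
  invFun u := Sum.elim (fun i => (u.1 i).1) fun i => (u.1 i).2
  left_inv v := by
    funext k
    rcases k with k | k <;> rfl
  right_inv u := rfl

/-- the form in the coordinates -/
def spB (u v : (Fin m → A) × Unit) : ZMod 2 :=
  ∑ i, ((u.1 i).2 * (v.1 i).1 - (u.1 i).1 * (v.1 i).2)

theorem spB_eq (u v : Fin m ⊕ Fin m → ZMod 2) : spB (spΦ m u) (spΦ m v) = Cfsg.sympForm m (ZMod 2) u v := by
  rw [SympBasic.sympForm_eq_sum]; rfl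

/-- The isometry group. -/
def spX (m : ℕ) : Subgroup (Equiv.Perm ((Fin m → A) × Unit)) :=
  (rho m (ZMod 2)).range.map (spΦ m).permCongrHom.toMonoidHom

theorem mem_spX {g : Equiv.Perm ((Fin m → A) × Unit)} :
    g ∈ spX m ↔ (∀ u v, g (u + v) = g u + g v) ∧ ∀ u v, spB (g u) (g v) = spB u v := by
  have hΦ : ∀ u v, spΦ m (u + v) = spΦ m u + spΦ m v := fun u v => rfl
  have hΦ' : ∀ u v, (spΦ m).symm (u + v) = (spΦ m).symm u + (spΦ m).symm v := fun u v => by
    apply (spΦ m).injective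
    rw [hΦ]; simp
  constructor
  · rintro ⟨_, ⟨s, rfl⟩, rfl⟩
    have hs := isSemi_rho s
    have hap : ∀ u, (spΦ m).permCongrHom.toMonoidHom (rho m (ZMod 2) s) u
        = spΦ m (rho m (ZMod 2) s ((spΦ m).symm u)) := fun u => rfl
    refine ⟨fun u v => ?_, fun u v => ?_⟩
    · rw [hap, hap, hap, hΦ', hs.1, hΦ]
    · rw [hap, hap, spB_eq, sympForm_rho, ← spB_eq]; simp
  · rintro ⟨h1, h2⟩
    have hex : ∃ s, rho m (ZMod 2) s = (spΦ m).symm.permCongrHom g := by
      refine exists_rho_eq _ (fun u v => ?_) (fun a v => ?_) (fun u v => ?_)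
      · change (spΦ m).symm (g (spΦ m (u + v))) = (spΦ m).symm (g (spΦ m u)) + (spΦ m).symm (g (spΦ m v))
        rw [hΦ, h1]; exact hΦ' _ _
      · change (spΦ m).symm (g (spΦ m (a • v))) = a • (spΦ m).symm (g (spΦ m v))
        have hg0 : g 0 = 0 := by
          have := h1 0 0
          rw [add_zero] at this
          exact left_eq_add.1 this
        fin_cases a
        · change (spΦ m).symm (g (spΦ m ((0 : ZMod 2) • v))) = (0 : ZMod 2) • (spΦ m).symm (g (spΦ m v))
          rw [zero_smul, zero_smul]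
          change (spΦ m).symm (g 0) = 0
          rw [hg0]
          funext k
          rcases k with k | k <;> rfl
        · change (spΦ m).symm (g (spΦ m ((1 : ZMod 2) • v))) = (1 : ZMod 2) • (spΦ m).symm (g (spΦ m v))
          rw [one_smul, one_smul]
      · change Cfsg.sympForm m (ZMod 2) ((spΦ m).symm (g (spΦ m u))) ((spΦ m).symm (g (spΦ m v))) = _
        rw [← spB_eq, ← spB_eq]
        simp [h2]
    obtain ⟨s, hs⟩ := hex
    refine ⟨rho m (ZMod 2) s, ⟨s, rfl⟩, ?_⟩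
    rw [hs]
    ext1 u
    change spΦ m ((spΦ m).symm (g (spΦ m ((spΦ m).symm u)))) = g u
    simp

theorem card_spX : Nat.card (spX m) = Nat.card (Matrix.symplecticGroup (Fin m) (ZMod 2)) := by
  have h1 : Nat.card (spX m) = Nat.card (rho m (ZMod 2)).range :=
    Nat.card_congr ((rho m (ZMod 2)).range.equivMapOfInjective _ (spΦ m).permCongrHom.injective).toEquiv.symm
  rw [h1]
  exact Nat.card_congr (MonoidHom.ofInjective (rho_injective (m := m) (F := ZMod 2))).toEquiv.symm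

theorem mono_le_spX : monoGroup (Fin m) Unit ≤ spX m := by
  rintro _ ⟨σ, c, rfl⟩
  rw [mem_spX]
  refine ⟨fun u v => ?_, fun u v => ?_⟩
  · ext1
    · funext k
      exact rp_add _ _ _
    · rfl
  · unfold spB
    have key : ∀ k, (((mo σ c u : (Fin m → A) × Unit).1 k).2 * ((mo σ c v : (Fin m → A) × Unit).1 k).1 -
        ((mo σ c u : (Fin m → A) × Unit).1 k).1 * ((mo σ c v : (Fin m → A) × Unit).1 k).2 : ZMod 2) =
        (u.1 (σ.symm k)).2 * (v.1 (σ.symm k)).1 - (u.1 (σ.symm k)).1 * (v.1 (σ.symm k)).2 := by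
      intro k
      have := rp_form (c k) (u.1 (σ.symm k)) (v.1 (σ.symm k))
      rw [mo_fst, mo_fst]
      linear_combination -this
    rw [Finset.sum_congr rfl fun k _ => key k]
    exact Equiv.sum_comp σ.symm fun k => (u.1 k).2 * (v.1 k).1 - (u.1 k).1 * (v.1 k).2

theorem gt_mem_spX {S : Fin m → Fin m → ZMod 2} (hS : ∀ i j, S i j = S j i) :
    (gt S : Equiv.Perm ((Fin m → A) × Unit)) ∈ spX m := by
  rw [mem_spX]
  refine ⟨fun u v => ?_, fun u v => ?_⟩
  · ext1
    · funext k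
      rw [gt_fst]
      change _ = ((gt S u).1 k) + ((gt S v).1 k)
      rw [gt_fst, gt_fst]
      ext1
      · change (u.1 k).1 + (v.1 k).1 + ∑ j, S k j * ((u.1 j).2 + (v.1 j).2) =
          ((u.1 k).1 + ∑ j, S k j * (u.1 j).2) + ((v.1 k).1 + ∑ j, S k j * (v.1 j).2)
        simp only [mul_add, Finset.sum_add_distrib]
        ring
      · rfl
    · rfl
  · unfold spB
    have h1 : ∀ k, (((gt S u : (Fin m → A) × Unit).1 k).2 * ((gt S v : (Fin m → A) × Unit).1 k).1 -
        ((gt S u : (Fin m → A) × Unit).1 k).1 * ((gt S v : (Fin m → A) × Unit).1 k).2 : ZMod 2) =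
        ((u.1 k).2 * (v.1 k).1 - (u.1 k).1 * (v.1 k).2) + ((u.1 k).2 * ∑ j, S k j * (v.1 j).2 -
          (∑ j, S k j * (u.1 j).2) * (v.1 k).2) := by
      intro k
      rw [gt_fst, gt_fst]
      ring
    rw [Finset.sum_congr rfl fun k _ => h1 k, Finset.sum_add_distrib]
    have h2 : ∑ k, ((u.1 k).2 * ∑ j, S k j * (v.1 j).2 - (∑ j, S k j * (u.1 j).2) * (v.1 k).2) = 0 := by
      rw [Finset.sum_sub_distrib, sub_eq_zero]
      simp only [Finset.mul_sum, Finset.sum_mul]
      rw [Finset.sum_comm]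
      refine Finset.sum_congr rfl fun k _ => Finset.sum_congr rfl fun j _ => ?_
      rw [hS k j]
      ring
    rw [h2, add_zero]

theorem not_three_dvd : ¬ 3 ∣ (monoGroup (Fin m) Unit).relIndex (spX m) := by
  have : Fact (Nat.Prime 3) := ⟨Nat.prime_three⟩
  apply not_dvd_relIndex mono_le_spX
  rw [card_spX, card_monoGroup, Fintype.card_fin]
  have h1 := H749.vp_Sp (p := 3) (F := ZMod 2) (d := 1) (by norm_num) ?_ one_ne_zero m
  · rw [h1, Nat.div_one, Nat.factorization_mul (Nat.factorial_ne_zero _) (by positivity),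
      Finsupp.add_apply, Nat.Prime.factorization_pow Nat.prime_three, Finsupp.single_eq_same]
    have h2 : H749.vp 3 (((Nat.card (ZMod 2) : ℤ) ^ 2) ^ 1 - 1) = 1 := by
      rw [Nat.card_zmod]
      have h3 : ((((2 : ℕ) : ℤ) ^ 2) ^ 1 - 1 : ℤ) = ((3 : ℕ) : ℤ) := by norm_num
      rw [h3, H749.vp_natCast, Nat.Prime.factorization_self Nat.prime_three]
    rw [h2, mul_one, add_comm]
  · rw [Nat.card_zmod]
    have : (((2 : ℕ) : ℤ) ^ 2 : ℤ) = 4 := by norm_num
    rw [this, orderOf_eq_one_iff]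
    exact four_cast

/-! ### The separation statement -/

theorem sepSp_two (hm : 2 ≤ m) : SepSp 3 (ZMod 2) m := by
  intro Γ hΓ hY _
  have hU : ∀ a : (ZMod 2)ˣ, a = 1 := by decide
  have hle : Γ.map (spΦ m).permCongrHom.toMonoidHom ≤ spX m := by
    apply Subgroup.map_mono
    intro y hy
    obtain ⟨θ, τ, hτ, ⟨h1, h2⟩, h3⟩ := hY y hy
    rw [ringEquiv_two θ] at h2 h3
    have hτ1 : τ = 1 := two_eq_one τ hτ
    obtain ⟨s, hs⟩ := exists_rho_eq y h1 h2 (fun u v => by rw [h3, hτ1, one_mul]; rfl)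
    exact ⟨s, hs⟩
  obtain ⟨g, hg, hsep⟩ := exists_sep (I := Fin m) (V₀ := Unit) (pathS m) pathS_diag (pathS_exists hm)
    pathS_aut (spX m) (spX m) (fun h hh g hg => (spX m).mul_mem ((spX m).mul_mem hh hg) ((spX m).inv_mem hh))
    (gt_mem_spX pathS_symm) not_three_dvd (Γ.map (spΦ m).permCongrHom.toMonoidHom) hle (hΓ.map _)
  obtain ⟨_, ⟨s, rfl⟩, rfl⟩ := hg
  refine ⟨rho m (ZMod 2) s, ⟨⟨(isSemi_rho s).1, (isSemi_rho s).2.1⟩, fun u v => sympForm_rho s u v⟩,
    fun y hy hy' => ⟨1, ?_⟩⟩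
  obtain ⟨a, ha⟩ := hy'
  rw [hU a, map_one, one_mul] at ha
  rw [map_one]
  apply (spΦ m).permCongrHom.injective
  rw [map_one]
  apply hsep _ (Subgroup.mem_map_of_mem _ hy)
  rw [← MonoidHom.map_mul, ← MonoidHom.map_inv, ← MonoidHom.map_mul]
  exact Subgroup.mem_map_of_mem _ ha

/-- `meet_PSp` of helper513 for all odd primes. -/
theorem meet_PSp_odd {p : ℕ} [Fact p.Prime] (hp : p ≠ 2) {F : Type} [Field F] [Fintype F] (hm : 2 ≤ m)
    (h2 : m = 2 → 3 ≤ Fintype.card F) (h : SepSp p F m) : Meet p (Cfsg.PSp m F) := by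
  intro P hP
  have hfin : Finite (Cfsg.PSp m F) := by
    unfold Cfsg.PSp
    infer_instance
  have hπ : Function.Surjective (QuotientGroup.mk' (Subgroup.center (Matrix.symplecticGroup (Fin m) F))) :=
    QuotientGroup.mk'_surjective _
  refine good_of_sep (T := Cfsg.PSp m F) (F := F) (V := Fin m ⊕ Fin m → F)
    (π := QuotientGroup.mk' (Subgroup.center (Matrix.symplecticGroup (Fin m) F))) hπ
    (ρ := rho m F) rho_injective (Y := SemiSp F m) ?_ ?_ ?_ ?_ ?_ ?_ hP ?_ ?_ (X' := IsSpMap F m) ?_ h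
  · rw [semiSp_iff]; exact one_mem _
  · intro y y' hy hy'
    rw [semiSp_iff] at hy hy' ⊢
    exact mul_mem hy hy'
  · intro a
    rw [semiSp_iff]
    exact ⟨_, _, mul_ne_zero a.ne_zero a.ne_zero, isSemi_scal (m := m) a⟩
  · rintro y ⟨θ, τ, -, hθ, -⟩
    exact ⟨θ, hθ⟩
  · intro s
    exact ⟨(isSemi_rho s).1, (isSemi_rho s).2.1⟩
  · intro s
    rw [semiSp_iff]
    exact ⟨_, _, one_ne_zero, isSemi_rho s⟩
  · intro β hβ
    obtain ⟨k, hk⟩ := hP ⟨β, hβ⟩
    have hk' : β ^ p ^ k = 1 := congrArg Subtype.val hk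
    have hodd : Odd (p ^ k) := Odd.pow ((Fact.out : p.Prime).odd_of_ne_two hp)
    obtain ⟨g, rfl⟩ := mem_range hm h2 β hodd hk'
    exact ⟨g, (semiSp_iff _).2 g.2, ind_Psi g⟩
  · intro y hy hind
    have hy' := (semiSp_iff y).1 hy
    have h1 : Psi m F ⟨y, hy'⟩ = 1 := Ind.unique hπ rho_injective (ind_Psi ⟨y, hy'⟩) hind
    obtain ⟨a, ha⟩ := exists_scal_of_Psi_eq_one (by omega) _ h1
    refine ⟨a, ?_⟩
    ext1 v
    exact DFunLike.congr_fun ha v
  · rintro g ⟨⟨h1, h2⟩, h3⟩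
    exact exists_rho_eq g h1 h2 h3

/-- **The row `PSp_{2m}(2)`.** -/
theorem meet3_PSp_two {m : ℕ} (hm : 3 ≤ m) : Meet 3 (Cfsg.PSp m (ZMod 2)) := by
  have : Fact (Nat.Prime 3) := ⟨Nat.prime_three⟩
  exact meet_PSp_odd (by norm_num) (by omega) (fun h => by omega) (sepSp_two (by omega))

end Cfsg.Agent.H728.Syl3
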